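import Mathlib
import Cfsg.Agent.Lib.Helper33.Ff2
import Cfsg.Agent.Lib.Helper2.ThompsonFact2
import Cfsg.Agent.Lib.Helper34.S3Lift
import Cfsg.Agent.Lib.Helper34.NPC

/-!
# Thompson factorization for `p = 2`, `S₄`-free groups with Sylow `2`-subgroups of class two

* `maxElemAbIn_le_centralizer_two_cl2`: no offenders on a normal elementary abelian `2`-subgroup
  `V` with `O_2(G / C_G(V)) = 1`, for `S₄`-free `G` with Sylow `2`-subgroups of class at most two
  (no solvability assumption).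
* `thompsonSubgroupOf_two_normal_cl2`: hence `J_e(S)` is normal when `C_G(O_2(G)) ≤ O_2(G)`.
-/

set_option autoImplicit false
open scoped commutatorElement

namespace Cfsg.Agent.Lib.Helper33.Ff

open Cfsg.Agent.Lib.Helper11 Cfsg.Agent.Lib.Helper2.TF

universe u

variable {G : Type u} [Group G]

/-- The conjugation action of `G` on the additive version of a normal subgroup. -/
def conjAdd (V : Subgroup G) [V.Normal] : G →* AddMonoid.End (Additive V) where
  toFun g := MonoidHom.toAdditive (MulAut.conjNormal g : ↥V ≃* ↥V).toMonoidHom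
  map_one' := by rw [map_one]; rfl
  map_mul' := fun g h => by rw [map_mul]; rfl

theorem centralizer_le_ker_conjAdd (V : Subgroup G) [V.Normal] :
    Subgroup.centralizer (V : Set G) ≤ (conjAdd V).ker := by
  intro g hg
  rw [MonoidHom.mem_ker]
  ext v
  show ((MulAut.conjNormal g (Additive.toMul v) : V) : G) = ((Additive.toMul v : V) : G)
  rw [MulAut.conjNormal_apply]
  have := Subgroup.mem_centralizer_iff.1 hg _ (Additive.toMul v).2
  rw [← this]; group

/-- The action of `G ⧸ C_G(V)` on `Additive V`. -/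
@[reducible] def quotAct (V : Subgroup G) [V.Normal] :
    DistribMulAction (G ⧸ Subgroup.centralizer (V : Set G)) (Additive V) :=
  DistribMulAction.compHom (Additive V)
    (QuotientGroup.lift (Subgroup.centralizer (V : Set G)) (conjAdd V)
      (centralizer_le_ker_conjAdd V))

/-- No offenders: in an `S₄`-free group whose Sylow `2`-subgroup `S` has class at most two, an
elementary abelian `2`-subgroup of largest order of `S` centralizes every normal elementary
abelian `2`-subgroup `V ≤ S` with `O_2(G / C_G(V)) = 1`. -/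
theorem maxElemAbIn_le_centralizer_two_cl2 [Finite G]
    (hS4 : ¬ Cfsg.Involves (Equiv.Perm (Fin 4)) G) (S : Sylow 2 G)
    (hcl : Subgroup.lowerCentralSeries (S : Subgroup G) 2 = ⊥)
    (V : Subgroup G) [hVn : V.Normal] (hVe : Cfsg.IsElementaryAbelian 2 V)
    (hVS : V ≤ (S : Subgroup G))
    (hcore : Cfsg.pCore 2 (G ⧸ Subgroup.centralizer (V : Set G)) = ⊥) :
    ∀ A ∈ maxElemAbIn 2 (S : Subgroup G), A ≤ Subgroup.centralizer (V : Set G) := by
  have h2f : Fact (Nat.Prime 2) := ⟨Nat.prime_two⟩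
  have hcl' : ⁅⁅(S : Subgroup G), (S : Subgroup G)⁆, (S : Subgroup G)⁆ = ⊥ := hcl
  have hVC : V ≤ Subgroup.centralizer (V : Set G) := by
    intro v hv
    rw [Subgroup.mem_centralizer_iff]
    intro w hw
    have := hVe.1
    exact setLike_mul_comm hw hv
  intro A hA
  by_contra hAC
  have hAS : A ≤ (S : Subgroup G) := hA.1
  have hAe : Cfsg.IsElementaryAbelian 2 A := hA.2.1
  have hAc := hAe.1
  have hVc := hVe.1
  let iV : AddCommGroup (Additive ↥V) :=
    { (inferInstance : AddGroup (Additive ↥V)) with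
      add_comm := fun a b => by
        show Additive.ofMul (Additive.toMul a * Additive.toMul b) =
          Additive.ofMul (Additive.toMul b * Additive.toMul a)
        congr 1
        exact Subtype.ext (setLike_mul_comm (Additive.toMul a).2 (Additive.toMul b).2) }
  let iA : DistribMulAction (G ⧸ Subgroup.centralizer (V : Set G)) (Additive ↥V) := quotAct V
  have hoff : Nat.card V * Nat.card ↥(A ⊓ Subgroup.centralizer (V : Set G)) ≤
      Nat.card A * Nat.card ↥(V ⊓ A) := by
    have hBe : Cfsg.IsElementaryAbelian 2 (V ⊔ (A ⊓ Subgroup.centralizer (V : Set G))) := by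
      apply elemAb_sup V (A ⊓ Subgroup.centralizer (V : Set G)) hVe (elemAb_mono inf_le_left hAe)
      intro v hv b hb
      exact Subgroup.mem_centralizer_iff.mp hb.2 v hv
    have hBS : V ⊔ (A ⊓ Subgroup.centralizer (V : Set G)) ≤ (S : Subgroup G) :=
      sup_le hVS (inf_le_left.trans hA.1)
    have hcard := hA.2.2 _ hBS hBe
    have h1 := Cfsg.Agent.Lib.Helper34.card_sup_mul_card_inf
      (A ⊓ Subgroup.centralizer (V : Set G)) V
    have h2 : V ⊓ (A ⊓ Subgroup.centralizer (V : Set G)) = V ⊓ A := by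
      apply le_antisymm
      · exact inf_le_inf_left _ inf_le_left
      · exact le_inf inf_le_left (le_inf inf_le_right (inf_le_left.trans hVC))
    rw [h2, sup_comm] at h1
    calc Nat.card V * Nat.card ↥(A ⊓ Subgroup.centralizer (V : Set G))
        = Nat.card ↥(V ⊔ (A ⊓ Subgroup.centralizer (V : Set G))) * Nat.card ↥(V ⊓ A) := h1.symm
      _ ≤ Nat.card A * Nat.card ↥(V ⊓ A) := Nat.mul_le_mul_right _ hcard
  -- the abstract hypotheses
  have h2 : ∀ v : Additive V, v + v = 0 := by
    intro v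
    have h3 : (Additive.toMul v : V) ^ 2 = 1 := Subtype.ext (hVe.2 _ (Additive.toMul v).2)
    show Additive.ofMul (Additive.toMul v * Additive.toMul v) = Additive.ofMul 1
    rw [← pow_two, h3]
  have hf : ∀ g : G ⧸ Subgroup.centralizer (V : Set G), (∀ v : Additive V, g • v = v) → g = 1 := by
    intro g hg
    obtain ⟨g, rfl⟩ := QuotientGroup.mk_surjective g
    rw [QuotientGroup.eq_one_iff, Subgroup.mem_centralizer_iff]
    intro v hv
    have h3 : Additive.ofMul (MulAut.conjNormal g (⟨v, hv⟩ : V)) = Additive.ofMul (⟨v, hv⟩ : V) :=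
      hg (Additive.ofMul ⟨v, hv⟩)
    have h4 : ((MulAut.conjNormal g ⟨v, hv⟩ : V) : G) = v :=
      congrArg (fun z => ((Additive.toMul z : V) : G)) h3
    rw [MulAut.conjNormal_apply] at h4
    calc v * g = (g * v * g⁻¹) * g := by rw [h4]
      _ = g * v := by group
  have hsurj : Function.Surjective (QuotientGroup.mk' (Subgroup.centralizer (V : Set G))) :=
    QuotientGroup.mk'_surjective _
  have hS₀ : ((S.mapSurjective hsurj : Sylow 2 (G ⧸ Subgroup.centralizer (V : Set G))) :
      Subgroup (G ⧸ Subgroup.centralizer (V : Set G))) =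
      (S : Subgroup G).map (QuotientGroup.mk' (Subgroup.centralizer (V : Set G))) :=
    Sylow.coe_mapSurjective hsurj S
  have hq : ∀ s ∈ ((S.mapSurjective hsurj : Sylow 2 (G ⧸ Subgroup.centralizer (V : Set G))) :
      Subgroup (G ⧸ Subgroup.centralizer (V : Set G))),
      ∀ t ∈ ((S.mapSurjective hsurj : Sylow 2 (G ⧸ Subgroup.centralizer (V : Set G))) :
      Subgroup (G ⧸ Subgroup.centralizer (V : Set G))), ∀ v : Additive V,
      s • (t • v - v) = t • v - v := by
    intro s hs t ht v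
    rw [hS₀] at hs ht
    obtain ⟨s, hs, rfl⟩ := hs
    obtain ⟨t, ht, rfl⟩ := ht
    obtain ⟨v, rfl⟩ := Additive.ofMul.surjective v
    show Additive.ofMul (MulAut.conjNormal s (MulAut.conjNormal t v / v)) =
      Additive.ofMul (MulAut.conjNormal t v / v)
    congr 1
    apply Subtype.ext
    rw [MulAut.conjNormal_apply, Subgroup.coe_div, MulAut.conjNormal_apply, div_eq_mul_inv]
    have hcS : ⁅t, (v : G)⁆ ∈ ⁅(S : Subgroup G), (S : Subgroup G)⁆ :=
      Subgroup.commutator_mem_commutator ht (hVS v.2)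
    have h3 : ⁅⁅t, (v : G)⁆, s⁆ ∈ ⁅⁅(S : Subgroup G), (S : Subgroup G)⁆, (S : Subgroup G)⁆ :=
      Subgroup.commutator_mem_commutator hcS hs
    rw [hcl', Subgroup.mem_bot] at h3
    have h4 := (commutatorElement_eq_one_iff_commute.mp h3).eq
    rw [commutatorElement_def] at h4
    rw [← h4]; group
  obtain ⟨Ab, hAbdef⟩ : ∃ Ab : Subgroup (G ⧸ Subgroup.centralizer (V : Set G)),
      Ab = A.map (QuotientGroup.mk' (Subgroup.centralizer (V : Set G))) := ⟨_, rfl⟩
  have hAb2 : IsPGroup 2 Ab := by rw [hAbdef]; exact (S.isPGroup'.to_le hAS).map _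
  have hAbne : Ab ≠ ⊥ := by
    intro h
    apply hAC
    intro a ha
    have h3 : QuotientGroup.mk' (Subgroup.centralizer (V : Set G)) a ∈ Ab := by
      rw [hAbdef]; exact Subgroup.mem_map_of_mem _ ha
    rw [h, Subgroup.mem_bot] at h3
    exact (QuotientGroup.eq_one_iff a).1 h3
  have hS3 : ∀ a ∈ Ab, ∀ x : G ⧸ Subgroup.centralizer (V : Set G), ∀ a' ∈ Ab,
      ¬ 3 ∣ orderOf (a * (x * a' * x⁻¹)) := by
    intro a ha x a' ha' h3
    rw [hAbdef] at ha ha'
    obtain ⟨a, ha, rfl⟩ := ha
    obtain ⟨a', ha', rfl⟩ := ha'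
    obtain ⟨x, rfl⟩ := QuotientGroup.mk_surjective x
    apply hS4
    obtain ⟨b, hbdef⟩ : ∃ b, b = x * a' * x⁻¹ := ⟨_, rfl⟩
    have haa : a * a = 1 := by rw [← pow_two]; exact hAe.2 a ha
    have hbb : b * b = 1 := by
      rw [hbdef]
      have : x * a' * x⁻¹ * (x * a' * x⁻¹) = x * (a' * a') * x⁻¹ := by group
      rw [this, ← pow_two, hAe.2 a' ha']; group
    have hmk : (QuotientGroup.mk' (Subgroup.centralizer (V : Set G)) a) *
        ((QuotientGroup.mk x : G ⧸ Subgroup.centralizer (V : Set G)) *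
          QuotientGroup.mk' (Subgroup.centralizer (V : Set G)) a' * (QuotientGroup.mk x)⁻¹) =
        QuotientGroup.mk' (Subgroup.centralizer (V : Set G)) (a * b) := by
      rw [hbdef]; rfl
    rw [hmk] at h3
    obtain ⟨k, m, hm3, hkm⟩ :=
      Nat.exists_eq_pow_mul_and_not_dvd (orderOf_pos (a * b)).ne' 3 (by norm_num)
    have hinv : a * (a * b) * a⁻¹ = (a * b)⁻¹ := by
      have hb' : b⁻¹ = b := inv_eq_of_mul_eq_one_left hbb
      rw [mul_inv_rev, hb']
      calc a * (a * b) * a⁻¹ = (a * a) * b * a⁻¹ := by group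
        _ = b * a⁻¹ := by rw [haa, one_mul]
    refine Cfsg.Agent.Lib.Helper34.involves_s4_of_elemAb V
      (fun v hv => by rw [← pow_two]; exact hVe.2 v hv) k ((a * b) ^ m) a 1 ?_ ?_ ?_ ?_ ?_ ?_
    · rw [← pow_mul, mul_comm, ← hkm]; exact pow_orderOf_eq_one _
    · rw [pow_one, pow_two]; exact haa
    · rw [← conj_pow, hinv, inv_pow]
    · rw [Subgroup.normalizer_eq_top]; trivial
    · rw [Subgroup.normalizer_eq_top]; trivial
    · intro hC
      have h5 : (QuotientGroup.mk' (Subgroup.centralizer (V : Set G)) (a * b)) ^ m = 1 := by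
        rw [← map_pow]; exact (QuotientGroup.eq_one_iff _).2 hC
      exact hm3 (h3.trans (orderOf_dvd_of_pow_eq_one h5))
  have hmain := @noOffender (G ⧸ Subgroup.centralizer (V : Set G)) _ _ (Additive ↥V) iV _ iA
    h2 hf hcore (S.mapSurjective hsurj) hq _ Ab rfl hAb2 hAbne hS3
  have hcardA : Nat.card A ≤ Nat.card ↥(A ⊓ Subgroup.centralizer (V : Set G)) * Nat.card Ab := by
    let f : ↥A → ↥Ab := fun a =>
      ⟨QuotientGroup.mk' (Subgroup.centralizer (V : Set G)) a, by
        rw [hAbdef]; exact Subgroup.mem_map_of_mem _ a.2⟩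
    apply card_le_mul_of_fibers f
    intro a
    let φ : {a' // f a' = f a} → ↥(A ⊓ Subgroup.centralizer (V : Set G)) := fun a' =>
      ⟨(a : G)⁻¹ * (a'.1 : G), A.mul_mem (A.inv_mem a.2) a'.1.2, by
        have h3 : QuotientGroup.mk' (Subgroup.centralizer (V : Set G)) (a'.1 : G) =
            QuotientGroup.mk' (Subgroup.centralizer (V : Set G)) (a : G) :=
          congrArg Subtype.val a'.2
        exact QuotientGroup.eq.1 h3.symm⟩
    apply Nat.card_le_card_of_injective φ
    intro a' a'' h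
    have h1 : (a : G)⁻¹ * (a'.1 : G) = (a : G)⁻¹ * (a''.1 : G) := congrArg Subtype.val h
    exact Subtype.ext (Subtype.ext (mul_left_cancel h1))
  have hfix : Nat.card ↥(V ⊓ A) ≤ Nat.card ↥(fixV (V := Additive V) Ab) := by
    let φ : ↥(V ⊓ A) → ↥(fixV (V := Additive V) Ab) := fun v =>
      ⟨Additive.ofMul ⟨v.1, v.2.1⟩, by
        intro a ha
        rw [hAbdef] at ha
        obtain ⟨a, ha, rfl⟩ := ha
        show Additive.ofMul (MulAut.conjNormal a ⟨v.1, v.2.1⟩) = Additive.ofMul ⟨v.1, v.2.1⟩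
        congr 1
        apply Subtype.ext
        rw [MulAut.conjNormal_apply]
        have h3 : a * (v : G) = (v : G) * a := setLike_mul_comm ha v.2.2
        show a * (v : G) * a⁻¹ = (v : G)
        rw [h3]; group⟩
    apply Nat.card_le_card_of_injective φ
    intro v v' h
    have h0 : ((φ v : ↥(fixV (V := Additive V) Ab)) : Additive V) = (φ v' : Additive V) :=
      congrArg Subtype.val h
    have h1 := congrArg (fun z : Additive ↥V => ((Additive.toMul z : V) : G)) h0
    exact Subtype.ext h1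
  have hcardV : Nat.card (Additive V) = Nat.card V := rfl
  rw [hcardV] at hmain
  obtain ⟨X, hXdef⟩ : ∃ X, X = Nat.card Ab * Nat.card ↥(A ⊓ Subgroup.centralizer (V : Set G)) *
      Nat.card ↥(V ⊓ A) := ⟨_, rfl⟩
  have hfin : 2 * X ≤ X := by
    rw [hXdef]
    calc 2 * (Nat.card Ab * Nat.card ↥(A ⊓ Subgroup.centralizer (V : Set G)) * Nat.card ↥(V ⊓ A))
        = (2 * Nat.card Ab * Nat.card ↥(V ⊓ A)) *
          Nat.card ↥(A ⊓ Subgroup.centralizer (V : Set G)) := by ring
      _ ≤ (2 * Nat.card Ab * Nat.card ↥(fixV (V := Additive V) Ab)) *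
          Nat.card ↥(A ⊓ Subgroup.centralizer (V : Set G)) :=
          Nat.mul_le_mul_right _ (Nat.mul_le_mul_left _ hfix)
      _ ≤ Nat.card V * Nat.card ↥(A ⊓ Subgroup.centralizer (V : Set G)) :=
          Nat.mul_le_mul_right _ hmain
      _ ≤ Nat.card A * Nat.card ↥(V ⊓ A) := hoff
      _ ≤ (Nat.card ↥(A ⊓ Subgroup.centralizer (V : Set G)) * Nat.card Ab) * Nat.card ↥(V ⊓ A) :=
          Nat.mul_le_mul_right _ hcardA
      _ = _ := by ring
  have hX : 0 < X := by
    rw [hXdef]
    exact Nat.mul_pos (Nat.mul_pos Nat.card_pos Nat.card_pos) Nat.card_pos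
  omega

/-- `J_e(S) ≤ C_G(V)` for `p = 2` in `S₄`-free groups with `C_G(O_2(G)) ≤ O_2(G)` and Sylow
`2`-subgroups of class at most two, `V` the normal closure of `Ω₁(Z(S))`. -/
theorem maxElemAbIn_le_centralizer_vOf_two_cl2 [Finite G]
    (hS4 : ¬ Cfsg.Involves (Equiv.Perm (Fin 4)) G)
    (hc : Subgroup.centralizer (Cfsg.pCore 2 G : Set G) ≤ Cfsg.pCore 2 G) (S : Sylow 2 G)
    (hcl : Subgroup.lowerCentralSeries (S : Subgroup G) 2 = ⊥) :
    ∀ A ∈ maxElemAbIn 2 (S : Subgroup G),
      A ≤ Subgroup.centralizer (vOf 2 (S : Subgroup G) : Set G) := by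
  have h2f := fact_prime_two
  have hVn := vOf_normal 2 (S : Subgroup G)
  have hVU : vOf 2 (S : Subgroup G) ≤ omegaZCore (G := G) 2 := vOf_le_omegaZCore hc S
  exact maxElemAbIn_le_centralizer_two_cl2 hS4 S hcl (vOf 2 (S : Subgroup G)) (vOf_elemAb hc S)
    (fun v hv => pCore_le_sylow S (hVU hv).1) (pCore_quotient_centralizer_vOf S)

/-- Class at most two: the elementary abelian subgroups of largest order of `S` lie in `O_2(G)`
(`G` `S₄`-free, `C_G(O_2(G)) ≤ O_2(G)`). -/
theorem maxElemAbIn_le_pCore_two_cl2 [Finite G]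
    (hS4 : ¬ Cfsg.Involves (Equiv.Perm (Fin 4)) G)
    (hc : Subgroup.centralizer (Cfsg.pCore 2 G : Set G) ≤ Cfsg.pCore 2 G) (S : Sylow 2 G)
    (hcl : Subgroup.lowerCentralSeries (S : Subgroup G) 2 = ⊥) :
    ∀ A ∈ maxElemAbIn 2 (S : Subgroup G), A ≤ Cfsg.pCore 2 G := by
  have h2f := fact_prime_two
  have hVn := vOf_normal 2 (S : Subgroup G)
  have hVe := vOf_elemAb hc S
  intro A hA
  refine le_trans ?_ (stab_le_pCore_two hc (vOf 2 (S : Subgroup G)) hVe)
  refine le_inf (maxElemAbIn_le_centralizer_vOf_two_cl2 hS4 hc S hcl A hA) ?_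
  intro a ha
  rw [mem_sectionKernel_iff]
  intro h hh
  apply omegaZ_subset_vOf
  have haa : a * a = 1 := by rw [← pow_two]; exact hA.2.1.2 a ha
  exact commutator_mem_omegaZ_of_class_two _ hcl (pCore_le_sylow S hh) (hA.1 ha) haa

/-- `J_e(S)` is normal in an `S₄`-free group with `C_G(O_2(G)) ≤ O_2(G)` whose Sylow
`2`-subgroup `S` has class at most two. -/
theorem thompsonSubgroupOf_two_normal_cl2 [Finite G]
    (hS4 : ¬ Cfsg.Involves (Equiv.Perm (Fin 4)) G)
    (hc : Subgroup.centralizer (Cfsg.pCore 2 G : Set G) ≤ Cfsg.pCore 2 G) (S : Sylow 2 G)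
    (hcl : Subgroup.lowerCentralSeries (S : Subgroup G) 2 = ⊥) :
    (Cfsg.thompsonSubgroupOf 2 (S : Subgroup G)).Normal := by
  have h2f := fact_prime_two
  have hHn := pCore_normal' 2 G
  have hJH : Cfsg.thompsonSubgroupOf 2 (S : Subgroup G) ≤ Cfsg.pCore 2 G := by
    rw [thompsonSubgroupOf_eq, sSup_le_iff]
    exact maxElemAbIn_le_pCore_two_cl2 hS4 hc S hcl
  have hJeq := thompsonSubgroupOf_eq_of_le (pCore_le_sylow S) hJH
  have h1 := normalizer_le_normalizer_thompsonSubgroupOf 2 (Cfsg.pCore 2 G)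
  rw [hJeq, Subgroup.normalizer_eq_top] at h1
  exact Subgroup.normalizer_eq_top_iff.mp (top_le_iff.mp h1)

end Cfsg.Agent.Lib.Helper33.Ff
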